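import Groth.Agent.CStk17.GeomConn.Spread
import Groth.Agent.ConsPropLib.Loci

/-!
# Constructibility of the geometric number of connected components
-/

set_option autoImplicit false
set_option linter.style.haveILetI false
set_option backward.isDefEq.respectTransparency false
set_option backward.isDefEq.respectTransparency.types false

universe u

open CategoryTheory CategoryTheory.Limits AlgebraicGeometry TopologicalSpace Topology

namespace Groth.Agent.CStk17.GeomConn

theorem preimage_nGeom {X Y X' Y' : Scheme.{u}} {f : X ⟶ Y} {f' : X' ⟶ Y'} {g' : X' ⟶ X} {g : Y' ⟶ Y}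
    (hc : IsPullback g' f' f g) (P : ℕ∞ → Prop) :
    g ⁻¹' {y | P (MoreMor.nGeomConnComp f y)} = {y | P (MoreMor.nGeomConnComp f' y)} := by
  ext y
  show P _ ↔ P _
  rw [(Triage.GeomCount.nGeom_baseChange f f' g' g hc y).2]

theorem isConstructible_nGeom {X Y : Scheme.{u}} [IsNoetherian Y] (f : X ⟶ Y) [LocallyOfFiniteType f]
    [QuasiCompact f] (P : ℕ∞ → Prop) : IsConstructible {y | P (MoreMor.nGeomConnComp f y)} :=
  ConsPropLib.isConstructible_of_dichotomy _ fun T j _ _ _ => by
    rw [preimage_nGeom (IsPullback.of_hasPullback f j) P]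
    obtain ⟨V, hη, hV⟩ := exists_nGeom_const (pullback.snd f j)
    by_cases h : P (MoreMor.nGeomConnComp (pullback.snd f j) (genericPoint ↥T))
    · refine Or.inl ⟨_, mem_interior.2 ⟨V, fun v hv => ?_, V.isOpen, hη⟩⟩
      show P _
      rwa [hV v hv]
    · refine Or.inr ⟨_, mem_interior.2 ⟨V, fun v hv => ?_, V.isOpen, hη⟩⟩
      show ¬ P _
      rwa [hV v hv]

theorem isLocallyConstructible_nGeom {X Y : Scheme.{u}} (f : X ⟶ Y) [LocallyOfFinitePresentation f] [QuasiCompact f]
    [QuasiSeparated f] (P : ℕ∞ → Prop) : IsLocallyConstructible {y | P (MoreMor.nGeomConnComp f y)} :=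
  ConsPropLib.lc_of_affine fun V hV => by
    haveI : IsAffine V.toScheme := hV
    rw [preimage_nGeom (isPullback_morphismRestrict f V).flip P]
    haveI : LocallyOfFinitePresentation (f ∣_ V) := IsZariskiLocalAtTarget.restrict ‹_› _
    haveI : QuasiCompact (f ∣_ V) := IsZariskiLocalAtTarget.restrict ‹_› _
    haveI : QuasiSeparated (f ∣_ V) := IsZariskiLocalAtTarget.restrict ‹_› _
    obtain ⟨S₀, X₀, _, π, u₀, _, qX, _, hS₀, hA, hl, hqc, -, -, sq, -⟩ :=
      ConsPropLib.exists_model_pair (f ∣_ V) (f ∣_ V)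
    haveI := hS₀; haveI := hA; haveI := hl; haveI := hqc
    rw [← preimage_nGeom sq P]
    refine (isConstructible_nGeom u₀ P).preimage π.continuous fun s hs hsc => ?_
    have hc : IsCompact s := by simpa using hsc isCompact_univ isOpen_univ
    intro W hW hWo
    exact QuasiSeparatedSpace.inter_isCompact (π ⁻¹' s) W (hs.preimage π.continuous)
      (QuasiCompact.isCompact_preimage (f := π) _ hs hc) hWo hW

end Groth.Agent.CStk17.GeomConn
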