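import Groth.Agent.CStk17.GeomConn.Points
import Groth.Agent.FlatMisc.GeomRedConstr
import Mathlib.AlgebraicGeometry.Geometrically.Reduced

/-!
# Geometric fibres: reducedness, components and global functions
-/

set_option autoImplicit false
set_option linter.style.haveILetI false
set_option backward.isDefEq.respectTransparency false
set_option backward.isDefEq.respectTransparency.types false

universe u

open CategoryTheory CategoryTheory.Limits AlgebraicGeometry TopologicalSpace Opposite

namespace Groth.Agent.CStk17.GeomConn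

open Groth.Agent.CStk17.H0Open

/-- The residue field of the point of the spectrum of a field is the field. -/
theorem isIso_fromSpecResidueField_field (K : Type u) [Field K] :
    IsIso ((Spec (CommRingCat.of K)).fromSpecResidueField (IsLocalRing.closedPoint K)) := by
  haveI : Subsingleton (Spec (CommRingCat.of K)) := inferInstanceAs (Subsingleton (PrimeSpectrum K))
  haveI : Surjective ((Spec (CommRingCat.of K)).fromSpecResidueField (IsLocalRing.closedPoint K)) :=
    ⟨fun y => ⟨IsLocalRing.closedPoint _, Subsingleton.elim _ _⟩⟩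
  haveI : IsClosedImmersion ((Spec (CommRingCat.of K)).fromSpecResidueField (IsLocalRing.closedPoint K)) :=
    IsClosedImmersion.of_isPreimmersion _
      (by rw [Scheme.range_fromSpecResidueField]; exact (isClosed_discrete _))
  exact isIso_of_isClosedImmersion_of_surjective _

variable {X Y : Scheme.{u}} (f : X ⟶ Y)

/-- `dim H⁰` of the fibre over a point. -/
noncomputable abbrev fibH0 (y : Y) : ℕ :=
  Models.hRank ↥(Y.residueField y) (f.fiber y) (f.fiberToSpecResidueField y) (Coh.structureModule (f.fiber y)) 0

/-- The fibre over the point is geometrically reduced. -/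
abbrev GRed (y : Y) : Prop := GeometricallyReduced (f.fiberToSpecResidueField y)

theorem gred_baseChange {X' Y' : Scheme.{u}} {f' : X' ⟶ Y'} {g' : X' ⟶ X} {g : Y' ⟶ Y}
    (hc : IsPullback g' f' f g) (y' : Y') : GRed f' y' ↔ GRed f (g y') :=
  Set.ext_iff.1 (FlatMisc.GeomRedConstr.locus_preimage hc) y'

theorem fibH0_baseChange [IsProper f] {X' Y' : Scheme.{u}} {f' : X' ⟶ Y'} [IsProper f'] {g' : X' ⟶ X} {g : Y' ⟶ Y}
    (hc : IsPullback g' f' f g) (y' : Y') : fibH0 f' y' = fibH0 f (g y') :=
  h0_eq_fibre f (Y'.fromSpecResidueField y' ≫ g) (g y')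
    (by rw [Scheme.Hom.comp_apply]; exact congrArg g (Y'.fromSpecResidueField_apply _ _)) (f'.fiberι y' ≫ g')
    (f'.fiberToSpecResidueField y')
    ((IsPullback.of_hasPullback f' (Y'.fromSpecResidueField y')).paste_horiz hc)

variable {Ω : Type u} [Field Ω] [IsAlgClosed Ω] (t : Spec (CommRingCat.of Ω) ⟶ Y)

theorem nGeom_eq_card (y : Y) (ht : t (IsLocalRing.closedPoint Ω) = y) :
    MoreMor.nGeomConnComp f y = ENat.card (_root_.ConnectedComponents ↥(pullback f t)) := by
  subst ht
  let p := pullback.snd f t
  let c := IsLocalRing.closedPoint Ω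
  rw [← (Triage.GeomCount.nGeom_baseChange f p _ t (IsPullback.of_hasPullback f t) c).2]
  let K : Type u := (Spec (CommRingCat.of Ω)).residueField c
  haveI : IsAlgClosed K := by
    have e' := (Scheme.Spec.residueFieldIso (CommRingCat.of Ω) c).commRingCatIsoToRingEquiv
    haveI : IsAlgClosed (IsLocalRing.maximalIdeal Ω).ResidueField :=
      IsAlgClosed.of_ringEquiv Ω _ (RingEquiv.ofBijective (algebraMap Ω (IsLocalRing.maximalIdeal Ω).ResidueField)
        ⟨RingHom.injective _, by
          have h := (Ideal.bijective_algebraMap_quotient_residueField (IsLocalRing.maximalIdeal Ω)).2.comp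
            Ideal.Quotient.mk_surjective
          convert h using 1
          funext z
          exact IsScalarTower.algebraMap_apply Ω (Ω ⧸ IsLocalRing.maximalIdeal Ω) _ z⟩)
    haveI : IsAlgClosed ↑(CommRingCat.of (PrimeSpectrum.asIdeal c).ResidueField) :=
      ‹IsAlgClosed (IsLocalRing.maximalIdeal Ω).ResidueField›
    exact IsAlgClosed.of_ringEquiv _ _ e'.symm
  let a := algebraMap ((Spec (CommRingCat.of Ω)).residueField c) (SeparableClosure ((Spec (CommRingCat.of Ω)).residueField c))
  have ha : Function.Bijective a := ⟨a.injective, fun x => by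
    haveI : IsAlgClosed ((Spec (CommRingCat.of Ω)).residueField c) := ‹IsAlgClosed K›
    exact Triage.GeomCount.range_of_sepClosed _ _ x (Algebra.IsSeparable.isSeparable _ x)⟩
  haveI : IsIso (CommRingCat.ofHom a) := by
    rw [ConcreteCategory.isIso_iff_bijective]
    exact ha
  let e1 : MoreMor.geomFiber p c ≅ p.fiber c :=
    asIso (pullback.fst (p.fiberToSpecResidueField c) (Spec.map (CommRingCat.ofHom a)))
  haveI : Subsingleton (Spec (CommRingCat.of Ω)) := inferInstanceAs (Subsingleton (PrimeSpectrum Ω))
  let h2 : ↥(p.fiber c) ≃ₜ ↥(pullback f t) :=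
    (p.fiberHomeo c).trans ((Homeomorph.setCongr (show p ⁻¹' {c} = Set.univ from
      Set.eq_univ_of_forall fun _ => Subsingleton.elim _ _)).trans (Homeomorph.Set.univ _))
  let h := (Scheme.homeoOfIso e1).trans h2
  exact ENat.card_congr (Equiv.ofBijective h.continuous.connectedComponentsMap
    ⟨fun a b hab => by
      obtain ⟨a, rfl⟩ := ConnectedComponents.surjective_coe a
      obtain ⟨b, rfl⟩ := ConnectedComponents.surjective_coe b
      have := congrArg h.symm.continuous.connectedComponentsMap hab
      simpa [Continuous.connectedComponentsMap_mk] using this,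
    fun c => by
      obtain ⟨x, rfl⟩ := ConnectedComponents.surjective_coe c
      exact ⟨ConnectedComponents.mk (h.symm x), by simp [Continuous.connectedComponentsMap_mk]⟩⟩)

theorem isReduced_pullback (y : Y) (ht : t (IsLocalRing.closedPoint Ω) = y) (hy : GRed f y) :
    IsReduced (pullback f t) := by
  subst ht
  have h := (gred_baseChange f (IsPullback.of_hasPullback f t) (IsLocalRing.closedPoint Ω)).2 hy
  haveI : GeometricallyReduced ((pullback.snd f t).fiberToSpecResidueField (IsLocalRing.closedPoint Ω)) := h
  haveI : IsReduced ((pullback.snd f t).fiber (IsLocalRing.closedPoint Ω)) :=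
    GeometricallyReduced.geometrically_isReduced (f := (pullback.snd f t).fiberToSpecResidueField _) (𝟙 _) (𝟙 _) _
      (IsPullback.of_id_fst)
  haveI : Subsingleton (Spec (CommRingCat.of Ω)) := inferInstanceAs (Subsingleton (PrimeSpectrum Ω))
  haveI : IsIso ((Spec (CommRingCat.of Ω)).fromSpecResidueField (IsLocalRing.closedPoint Ω)) :=
    GeomConn.isIso_fromSpecResidueField_field Ω
  haveI : IsIso ((pullback.snd f t).fiberι (IsLocalRing.closedPoint Ω)) :=
    inferInstanceAs (IsIso (pullback.fst (pullback.snd f t)
      ((Spec (CommRingCat.of Ω)).fromSpecResidueField (IsLocalRing.closedPoint Ω))))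
  exact isReduced_of_isOpenImmersion (inv ((pullback.snd f t).fiberι (IsLocalRing.closedPoint Ω)))

theorem fibH0_eq_card [IsProper f] (y : Y) (ht : t (IsLocalRing.closedPoint Ω) = y) (hy : GRed f y) :
    (fibH0 f y : ℕ∞) = ENat.card (_root_.ConnectedComponents ↥(pullback f t)) := by
  haveI := isReduced_pullback f t y ht hy
  rw [← h0_eq_card (pullback.snd f t)]
  exact congrArg Nat.cast (h0_eq_fibre f t y ht _ _ (IsPullback.of_hasPullback f t)).symm

omit Ω in
theorem nGeom_eq_fibH0 [IsProper f] (y : Y) (hy : GRed f y) : MoreMor.nGeomConnComp f y = fibH0 f y := by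
  let Ω := AlgebraicClosure (Y.residueField y)
  let t : Spec (CommRingCat.of Ω) ⟶ Y :=
    Spec.map (CommRingCat.ofHom (algebraMap (Y.residueField y) Ω)) ≫ Y.fromSpecResidueField y
  have ht : t (IsLocalRing.closedPoint Ω) = y := by
    rw [Scheme.Hom.comp_apply]; exact Y.fromSpecResidueField_apply _ _
  rw [nGeom_eq_card f t y ht, fibH0_eq_card f t y ht hy]

end Groth.Agent.CStk17.GeomConn
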