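import Groth.Agent.CStk17.GeomConn.Geometric
import Groth.Agent.EtPBC63.Conn.Main
import Groth.Agent.Ega43Prop.QFDvr
import Groth.Agent.LC.CanonComplete
import Groth.Agent.UnivOpen.Criterion
import Mathlib.RingTheory.AdicCompletion.LocalRing
import Mathlib.RingTheory.Henselian
import Mathlib.RingTheory.AdicCompletion.AsTensorProduct

/-!
# Constancy of `h⁰` on the generizations of a geometrically reduced fibre
-/

set_option autoImplicit false
set_option linter.style.haveILetI false
set_option backward.isDefEq.respectTransparency false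
set_option backward.isDefEq.respectTransparency.types false

universe u

open CategoryTheory CategoryTheory.Limits AlgebraicGeometry TopologicalSpace IsLocalRing

namespace Groth.Agent.CStk17.GeomConn

open Groth.Agent.CStk17.H0Open Groth.Agent.H23

theorem fibH0_eq_spec {A : Type u} [CommRing A] {X : Scheme.{u}} (π : X ⟶ Spec (CommRingCat.of A)) [IsProper π]
    (x : PrimeSpectrum A) :
    fibH0 π x = h0 (pullback.snd π (Seesaw.specAlg A x.asIdeal.ResidueField)) :=
  (h0_eq_fibre π _ x (Seesaw.range_specAlg x _) _ _ (IsPullback.of_hasPullback π _)).symm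

theorem exists_fibH0_rank {A : Type u} [CommRing A] [IsNoetherianRing A] {X : Scheme.{u}}
    (π : X ⟶ Spec (CommRingCat.of A)) [IsProper π] [Flat π] :
    ∃ (Q : ModuleCat.{u} A) (_ : Module.Finite A Q), ∀ x : PrimeSpectrum A, fibH0 π x = FlatCxLib.fibreRank Q x := by
  obtain ⟨Q, hQ, h⟩ := exists_rank π
  exact ⟨Q, hQ, fun x => (fibH0_eq_spec π x).trans (h x)⟩

/-- Over a complete noetherian local ring with algebraically closed residue field, `h⁰` of the fibres of a flat
proper scheme with geometrically reduced closed fibre is the number of connected components. -/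
theorem fibH0_eq_closed {B : Type u} [CommRing B] [IsNoetherianRing B] [IsLocalRing B]
    [HenselianRing B (maximalIdeal B)] [IsAlgClosed (ResidueField B)] {X : Scheme.{u}}
    (π : X ⟶ Spec (CommRingCat.of B)) [IsProper π] [Flat π] (hred : GRed π (closedPoint B))
    (x : PrimeSpectrum B) : fibH0 π x = fibH0 π (closedPoint B) := by
  haveI : IsLocallyNoetherian X := LocallyOfFiniteType.isLocallyNoetherian π
  haveI : CompactSpace X := QuasiCompact.compactSpace_of_compactSpace π
  haveI : AlgebraicGeometry.IsNoetherian X := {}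
  let t : Spec (CommRingCat.of (ResidueField B)) ⟶ Spec (CommRingCat.of B) :=
    Spec.map (CommRingCat.ofHom (residue B))
  have ht : t (closedPoint (ResidueField B)) = closedPoint B := by
    refine PrimeSpectrum.ext ?_
    show Ideal.comap (residue B) (maximalIdeal (ResidueField B)) = maximalIdeal B
    rw [IsLocalRing.maximalIdeal_eq_bot, ← RingHom.ker_eq_comap_bot, IsLocalRing.ker_residue]
  haveI : IsClosedImmersion t := IsClosedImmersion.spec_of_surjective _ residue_surjective
  let i := pullback.fst π t
  haveI : IsClosedImmersion i := MorphismProperty.pullback_fst _ _ ‹IsClosedImmersion t›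
  have hr : Set.range i = π ⁻¹' PrimeSpectrum.zeroLocus (maximalIdeal B : Set B) := by
    rw [Scheme.Pullback.range_fst]
    congr 1
    rw [PrimeSpectrum.zeroLocus_eq_singleton]
    refine Set.eq_singleton_iff_unique_mem.2 ⟨⟨_, ht⟩, ?_⟩
    rintro _ ⟨z, rfl⟩
    rw [Subsingleton.elim (α := PrimeSpectrum (ResidueField B)) z (closedPoint (ResidueField B))]
    exact ht
  have hbij := EtPBC63.Conn.bijective_connectedComponentsMap (maximalIdeal B) π i.isEmbedding hr
  have hc := fibH0_eq_card π t (closedPoint B) ht hred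
  haveI : LocallyConnectedSpace X := H23.LocNoethTop.locallyConnectedSpace
    (fun _ => ⟨Set.univ, Filter.univ_mem, inferInstance⟩)
  haveI : DiscreteTopology (_root_.ConnectedComponents X) := inferInstance
  haveI : Finite (_root_.ConnectedComponents X) := finite_of_compact_of_discrete
  haveI := Fintype.ofFinite (_root_.ConnectedComponents X)
  have hm : fibH0 π (closedPoint B) = Fintype.card (_root_.ConnectedComponents X) := by
    rw [← Nat.cast_inj (R := ℕ∞), hc, ← ENat.card_eq_coe_fintype_card]
    exact ENat.card_congr (Equiv.ofBijective _ hbij)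
  haveI : LocallyOfFinitePresentation π := inferInstance
  haveI : UniversallyOpen π := UniversallyOpen.of_flat π
  refine le_antisymm ?_ (hm.trans_le ?_)
  · obtain ⟨Q, _, hQ⟩ := exists_fibH0_rank π
    rw [hQ x, hQ]
    have ho := (FlatCxLib.upperSemicontinuous_fibreRank (A := B) Q).isOpen_preimage
      (FlatCxLib.fibreRank Q (closedPoint B) + 1)
    exact Nat.lt_succ_iff.1 ((show x ⤳ closedPoint B from
      (PrimeSpectrum.le_iff_specializes x (closedPoint B)).1 (le_maximalIdeal x.isPrime.ne_top)).mem_open ho
        (Nat.lt_succ_self _))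
  · let q := pullback.fst π (Seesaw.specAlg B x.asIdeal.ResidueField)
    let U : _root_.ConnectedComponents X → (pullback π (Seesaw.specAlg B x.asIdeal.ResidueField)).Opens :=
      fun c => q ⁻¹ᵁ ⟨ConnectedComponents.mk ⁻¹' {c},
        (isOpen_discrete ({c} : Set (_root_.ConnectedComponents X))).preimage ConnectedComponents.continuous_coe⟩
    rw [fibH0_eq_spec]
    refine card_le_h0 _ U (fun c => ?_) (fun a b h => ?_) (eq_top_iff.2 fun z _ =>
      TopologicalSpace.Opens.mem_iSup.2 ⟨ConnectedComponents.mk (q z), rfl⟩)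
    · obtain ⟨y, rfl⟩ := ConnectedComponents.surjective_coe c
      obtain ⟨w, hw, hwx⟩ : ∃ w : X, ConnectedComponents.mk w = ConnectedComponents.mk y ∧ π w = x := by
        let C : Set X := ConnectedComponents.mk ⁻¹' {ConnectedComponents.mk y}
        have hC : IsOpen C := (isOpen_discrete _).preimage ConnectedComponents.continuous_coe
        have hC' : IsClosed C := (isClosed_discrete _).preimage ConnectedComponents.continuous_coe
        have h1 : closedPoint B ∈ π '' C := by
          obtain ⟨z, hz, hze⟩ : ∃ z ∈ π '' C, z ⤳ closedPoint B :=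
            ⟨π y, ⟨y, rfl, rfl⟩, (PrimeSpectrum.le_iff_specializes _ _).1 (le_maximalIdeal (π y).isPrime.ne_top)⟩
          exact hze.mem_closed (π.isClosedMap _ hC') hz
        obtain ⟨w, hw, hwx⟩ := (show x ⤳ closedPoint B from
          (PrimeSpectrum.le_iff_specializes _ _).1 (le_maximalIdeal x.isPrime.ne_top)).mem_open (π.isOpenMap _ hC) h1
        exact ⟨w, hw, hwx⟩
      obtain ⟨z, hz⟩ : w ∈ Set.range q := by
        rw [Scheme.Pullback.range_fst]
        exact ⟨closedPoint _, (Seesaw.range_specAlg x _).trans hwx.symm⟩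
      exact ⟨z, show ConnectedComponents.mk (q z) = _ by rw [hz, hw]⟩
    · exact ((Set.disjoint_singleton.2 h).preimage _).preimage _

theorem fibH0_eq_of_specializes {A₀ : Type u} [CommRing A₀] [IsNoetherianRing A₀] {X : Scheme.{u}}
    (π : X ⟶ Spec (CommRingCat.of A₀)) [IsProper π] [Flat π] {η y : PrimeSpectrum A₀} (hs : η ⤳ y)
    (hy : GRed π y) : fibH0 π η = fibH0 π y := by
  rcases eq_or_ne y η with rfl | hne
  · rfl
  obtain ⟨R₀, _, _, _, τ, hτc, hτη⟩ := UnivOpen.exists_dvr_lift (Y := Spec (CommRingCat.of A₀)) hs hne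
  obtain ⟨R, _, _, _, φ, hφ, hφi, hacl⟩ := Ega43Prop.exists_dvr_algClosed R₀
  haveI := LC.Canon.isNoetherianRing_completion (R := R)
  haveI : IsAdicComplete (maximalIdeal (AdicCompletion (maximalIdeal R) R)) (AdicCompletion (maximalIdeal R) R) := inferInstance
  haveI : HenselianRing (AdicCompletion (maximalIdeal R) R) (maximalIdeal (AdicCompletion (maximalIdeal R) R)) := inferInstance
  haveI : IsAlgClosed (ResidueField (AdicCompletion (maximalIdeal R) R)) := IsAlgClosed.of_ringEquiv _ _
    (RingEquiv.ofBijective _ (AdicCompletion.residueField_map_bijective (R := R)))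
  haveI : Module.FaithfullyFlat R (AdicCompletion (maximalIdeal R) R) := Module.FaithfullyFlat.of_flat_of_isLocalHom
  let g : Spec (CommRingCat.of (AdicCompletion (maximalIdeal R) R)) ⟶ Spec (CommRingCat.of A₀) :=
    Spec.map (CommRingCat.ofHom (algebraMap R (AdicCompletion (maximalIdeal R) R))) ≫ Spec.map (CommRingCat.ofHom φ) ≫ τ
  have hgc : g (closedPoint (AdicCompletion (maximalIdeal R) R)) = y := by
    rw [Scheme.Hom.comp_apply, Scheme.Hom.comp_apply]
    show τ (Spec.map (CommRingCat.ofHom φ) (PrimeSpectrum.comap (algebraMap R (AdicCompletion (maximalIdeal R) R)) (closedPoint (AdicCompletion (maximalIdeal R) R)))) = y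
    rw [IsLocalRing.comap_closedPoint]
    show τ (PrimeSpectrum.comap φ (closedPoint R)) = y
    rw [IsLocalRing.comap_closedPoint]
    exact hτc
  obtain ⟨P, hP⟩ : ∃ P : PrimeSpectrum (AdicCompletion (maximalIdeal R) R), PrimeSpectrum.comap (algebraMap R (AdicCompletion (maximalIdeal R) R)) P = ⟨⊥, Ideal.isPrime_bot⟩ :=
    PrimeSpectrum.comap_surjective_of_faithfullyFlat (A := R) (B := AdicCompletion (maximalIdeal R) R) _
  have hgP : g P = η := by
    rw [Scheme.Hom.comp_apply, Scheme.Hom.comp_apply]
    refine hτη _ ?_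
    show PrimeSpectrum.comap φ (PrimeSpectrum.comap (algebraMap R (AdicCompletion (maximalIdeal R) R)) P) ≠ closedPoint R₀
    rw [hP]
    intro h
    have h' : Ideal.comap φ ⊥ = maximalIdeal R₀ := congrArg PrimeSpectrum.asIdeal h
    rw [← RingHom.ker_eq_comap_bot, (RingHom.injective_iff_ker_eq_bot _).1 hφi] at h'
    exact IsDiscreteValuationRing.not_a_field R₀ h'.symm
  let π' := pullback.snd π g
  haveI : IsProper π' := MorphismProperty.pullback_snd _ _ ‹IsProper π›
  haveI : Flat π' := MorphismProperty.pullback_snd _ _ ‹Flat π›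
  have hred : GRed π' (closedPoint (AdicCompletion (maximalIdeal R) R)) := (gred_baseChange π (IsPullback.of_hasPullback π g) _).2 (by
    show GRed π (g (closedPoint (AdicCompletion (maximalIdeal R) R)))
    rw [hgc]; exact hy)
  have h := fibH0_eq_closed π' hred P
  rw [fibH0_baseChange π (IsPullback.of_hasPullback π g), fibH0_baseChange π (IsPullback.of_hasPullback π g),
    hgP, hgc] at h
  exact h

/-- Over a noetherian ring `h⁰` is constant near a point with geometrically reduced fibre. -/
theorem fibH0_eventually_eq {A₀ : Type u} [CommRing A₀] [IsNoetherianRing A₀] {X : Scheme.{u}}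
    (π : X ⟶ Spec (CommRingCat.of A₀)) [IsProper π] [Flat π] {y : PrimeSpectrum A₀} (hy : GRed π y) :
    {z : PrimeSpectrum A₀ | fibH0 π z = fibH0 π y} ∈ nhds y := by
  obtain ⟨Q, _, hQ⟩ := exists_fibH0_rank π
  let m := FlatCxLib.fibreRank Q y
  have hu := FlatCxLib.upperSemicontinuous_fibreRank (A := A₀) Q
  have hC : Topology.IsLocallyConstructible ((FlatCxLib.fibreRank Q ⁻¹' Set.Iio (m + 1)) ∩
      (FlatCxLib.fibreRank Q ⁻¹' Set.Iio m)ᶜ : Set ↥(Spec (CommRingCat.of A₀))) :=
    FibDim.isLocallyConstructible_inter (hu.isOpen_preimage _) (hu.isOpen_preimage _).isClosed_compl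
  refine Filter.mem_of_superset (FibDim.mem_nhds_of_generizations hC (y := y) fun η hη => ?_) fun z hz => ?_
  · have h := fibH0_eq_of_specializes π hη hy
    rw [hQ, hQ] at h
    show FlatCxLib.fibreRank Q η < m + 1 ∧ ¬ FlatCxLib.fibreRank Q η < m
    rw [h]; omega
  · have hz' : FlatCxLib.fibreRank Q z < m + 1 ∧ ¬ FlatCxLib.fibreRank Q z < m := hz
    show fibH0 π z = fibH0 π y
    rw [hQ, hQ]; omega

end Groth.Agent.CStk17.GeomConn
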