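import Groth.Agent.CStk17.GeomConn.Henselian
import Groth.Agent.GeomField.Connected

/-!
# The geometric number of components does not drop under generization (flat proper)
-/

set_option autoImplicit false
set_option linter.style.haveILetI false
set_option backward.isDefEq.respectTransparency false
set_option backward.isDefEq.respectTransparency.types false

universe u

open CategoryTheory CategoryTheory.Limits AlgebraicGeometry TopologicalSpace IsLocalRing

namespace Groth.Agent.CStk17.GeomConn

theorem card_le_card_of_surjective {α β : Type u} (g : α → β) (h : Function.Surjective g) :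
    ENat.card β ≤ ENat.card α :=
  ENat.card_le_card_of_injective (Function.injective_surjInv h)

theorem nGeom_closed_le {B : Type u} [CommRing B] [IsNoetherianRing B] [IsLocalRing B]
    [HenselianRing B (maximalIdeal B)] [IsAlgClosed (ResidueField B)] {X : Scheme.{u}}
    (π : X ⟶ Spec (CommRingCat.of B)) [IsProper π] [Flat π] (x : PrimeSpectrum B) :
    MoreMor.nGeomConnComp π (closedPoint B) ≤ MoreMor.nGeomConnComp π x := by
  haveI : IsLocallyNoetherian X := LocallyOfFiniteType.isLocallyNoetherian π
  haveI : CompactSpace X := QuasiCompact.compactSpace_of_compactSpace π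
  haveI : AlgebraicGeometry.IsNoetherian X := {}
  haveI : LocallyConnectedSpace X := H23.LocNoethTop.locallyConnectedSpace
    (fun _ => ⟨Set.univ, Filter.univ_mem, inferInstance⟩)
  haveI : LocallyOfFinitePresentation π := inferInstance
  haveI : UniversallyOpen π := UniversallyOpen.of_flat π
  -- the closed fibre
  let t : Spec (CommRingCat.of (ResidueField B)) ⟶ Spec (CommRingCat.of B) :=
    Spec.map (CommRingCat.ofHom (residue B))
  have ht : t (closedPoint (ResidueField B)) = closedPoint B := by
    refine PrimeSpectrum.ext ?_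
    show Ideal.comap (residue B) (maximalIdeal (ResidueField B)) = maximalIdeal B
    rw [IsLocalRing.maximalIdeal_eq_bot, ← RingHom.ker_eq_comap_bot, IsLocalRing.ker_residue]
  haveI : IsClosedImmersion t := IsClosedImmersion.spec_of_surjective _ residue_surjective
  haveI : IsClosedImmersion (pullback.fst π t) := MorphismProperty.pullback_fst _ _ ‹IsClosedImmersion t›
  have hr : Set.range (pullback.fst π t) = π ⁻¹' PrimeSpectrum.zeroLocus (maximalIdeal B : Set B) := by
    rw [Scheme.Pullback.range_fst]
    congr 1
    rw [PrimeSpectrum.zeroLocus_eq_singleton]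
    refine Set.eq_singleton_iff_unique_mem.2 ⟨⟨_, ht⟩, ?_⟩
    rintro _ ⟨z, rfl⟩
    rw [Subsingleton.elim (α := PrimeSpectrum (ResidueField B)) z (closedPoint (ResidueField B))]
    exact ht
  have hbij := EtPBC63.Conn.bijective_connectedComponentsMap (maximalIdeal B) π (pullback.fst π t).isEmbedding hr
  rw [nGeom_eq_card π t (closedPoint B) ht, ENat.card_congr (Equiv.ofBijective _ hbij)]
  -- the fibre over `x`
  let Ω := AlgebraicClosure ((Spec (CommRingCat.of B)).residueField x)
  let s : Spec (CommRingCat.of Ω) ⟶ Spec (CommRingCat.of B) :=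
    Spec.map (CommRingCat.ofHom (algebraMap ((Spec (CommRingCat.of B)).residueField x) Ω)) ≫
      (Spec (CommRingCat.of B)).fromSpecResidueField x
  have hs : s (closedPoint Ω) = x := by
    rw [Scheme.Hom.comp_apply]; exact (Spec (CommRingCat.of B)).fromSpecResidueField_apply _ _
  rw [nGeom_eq_card π s x hs]
  refine card_le_card_of_surjective (pullback.fst π s).continuous.connectedComponentsMap fun c => ?_
  obtain ⟨y, rfl⟩ := ConnectedComponents.surjective_coe c
  let C : Set X := connectedComponent y
  have hC : IsOpen C := isOpen_connectedComponent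
  have h1 : closedPoint B ∈ π '' C :=
    ((PrimeSpectrum.le_iff_specializes _ _).1 (le_maximalIdeal (π y).isPrime.ne_top) :
      π y ⤳ closedPoint B).mem_closed (π.isClosedMap _ isClosed_connectedComponent) ⟨y, mem_connectedComponent, rfl⟩
  obtain ⟨w, hw, hwx⟩ := (show x ⤳ closedPoint B from
    (PrimeSpectrum.le_iff_specializes _ _).1 (le_maximalIdeal x.isPrime.ne_top)).mem_open (π.isOpenMap _ hC) h1
  obtain ⟨z, hz⟩ : w ∈ Set.range (pullback.fst π s) := by
    rw [Scheme.Pullback.range_fst]
    exact ⟨closedPoint Ω, hs.trans hwx.symm⟩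
  refine ⟨ConnectedComponents.mk z, ?_⟩
  rw [Continuous.connectedComponentsMap_mk, hz]
  exact ConnectedComponents.coe_eq_coe'.2 hw

theorem nGeom_le_of_specializes {Y X : Scheme.{u}} [IsLocallyNoetherian Y]
    (π : X ⟶ Y) [IsProper π] [Flat π] {η y : Y} (hs : η ⤳ y) :
    MoreMor.nGeomConnComp π y ≤ MoreMor.nGeomConnComp π η := by
  rcases eq_or_ne y η with rfl | hne
  · rfl
  obtain ⟨R₀, _, _, _, τ, hτc, hτη⟩ := UnivOpen.exists_dvr_lift hs hne
  obtain ⟨R, _, _, _, φ, hφ, hφi, hacl⟩ := Ega43Prop.exists_dvr_algClosed R₀
  haveI := LC.Canon.isNoetherianRing_completion (R := R)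
  haveI : HenselianRing (AdicCompletion (maximalIdeal R) R) (maximalIdeal (AdicCompletion (maximalIdeal R) R)) :=
    inferInstance
  haveI : IsAlgClosed (ResidueField (AdicCompletion (maximalIdeal R) R)) := IsAlgClosed.of_ringEquiv _ _
    (RingEquiv.ofBijective _ (AdicCompletion.residueField_map_bijective (R := R)))
  haveI : Module.FaithfullyFlat R (AdicCompletion (maximalIdeal R) R) :=
    Module.FaithfullyFlat.of_flat_of_isLocalHom
  let g : Spec (CommRingCat.of (AdicCompletion (maximalIdeal R) R)) ⟶ Y :=
    Spec.map (CommRingCat.ofHom (algebraMap R (AdicCompletion (maximalIdeal R) R))) ≫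
      Spec.map (CommRingCat.ofHom φ) ≫ τ
  have hgc : g (closedPoint (AdicCompletion (maximalIdeal R) R)) = y := by
    rw [Scheme.Hom.comp_apply, Scheme.Hom.comp_apply]
    show τ (Spec.map (CommRingCat.ofHom φ) (PrimeSpectrum.comap (algebraMap R (AdicCompletion (maximalIdeal R) R))
      (closedPoint _))) = y
    rw [IsLocalRing.comap_closedPoint]
    show τ (PrimeSpectrum.comap φ (closedPoint R)) = y
    rw [IsLocalRing.comap_closedPoint]
    exact hτc
  obtain ⟨P, hP⟩ : ∃ P : PrimeSpectrum (AdicCompletion (maximalIdeal R) R),
      PrimeSpectrum.comap (algebraMap R (AdicCompletion (maximalIdeal R) R)) P = ⟨⊥, Ideal.isPrime_bot⟩ :=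
    PrimeSpectrum.comap_surjective_of_faithfullyFlat (A := R) (B := AdicCompletion (maximalIdeal R) R) _
  have hgP : g P = η := by
    rw [Scheme.Hom.comp_apply, Scheme.Hom.comp_apply]
    refine hτη _ ?_
    show PrimeSpectrum.comap φ (PrimeSpectrum.comap (algebraMap R (AdicCompletion (maximalIdeal R) R)) P) ≠
      closedPoint R₀
    rw [hP]
    intro h
    have h' : Ideal.comap φ ⊥ = maximalIdeal R₀ := congrArg PrimeSpectrum.asIdeal h
    rw [← RingHom.ker_eq_comap_bot, (RingHom.injective_iff_ker_eq_bot _).1 hφi] at h'
    exact IsDiscreteValuationRing.not_a_field R₀ h'.symm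
  let π' := pullback.snd π g
  haveI : IsProper π' := MorphismProperty.pullback_snd _ _ ‹IsProper π›
  haveI : Flat π' := MorphismProperty.pullback_snd _ _ ‹Flat π›
  have h := nGeom_closed_le π' P
  rw [(Triage.GeomCount.nGeom_baseChange π π' _ g (IsPullback.of_hasPullback π g) _).2,
    (Triage.GeomCount.nGeom_baseChange π π' _ g (IsPullback.of_hasPullback π g) _).2] at h
  rwa [← hgP, ← hgc]

end Groth.Agent.CStk17.GeomConn

namespace Groth.Agent.CStk17.GeomConn

theorem card_connectedComponents_eq_one_iff {Z : Type u} [TopologicalSpace Z] :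
    ENat.card (_root_.ConnectedComponents Z) = 1 ↔ ConnectedSpace Z := by
  constructor
  · intro h
    obtain ⟨hU⟩ := ENat.card_eq_one_iff_unique.1 h
    haveI := hU
    haveI : Nonempty Z := ⟨(ConnectedComponents.surjective_coe (default : _root_.ConnectedComponents Z)).choose⟩
    rw [connectedSpace_iff_connectedComponent]
    refine ⟨Classical.arbitrary Z, Set.eq_univ_of_forall fun z => ?_⟩
    exact ConnectedComponents.coe_eq_coe'.1 (Subsingleton.elim _ _)
  · intro h
    haveI := h
    refine ENat.card_eq_one_iff_unique.2
      ⟨{ default := ConnectedComponents.mk (Classical.arbitrary Z), uniq := fun a => ?_ }⟩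
    obtain ⟨a, rfl⟩ := ConnectedComponents.surjective_coe a
    show ConnectedComponents.mk a = ConnectedComponents.mk (Classical.arbitrary Z)
    rw [ConnectedComponents.coe_eq_coe', PreconnectedSpace.connectedComponent_eq_univ]
    trivial

theorem nGeom_eq_one_iff {X Y : Scheme.{u}} (f : X ⟶ Y) (y : Y) :
    MoreMor.nGeomConnComp f y = 1 ↔ GeometricallyConnected (f.fiberToSpecResidueField y) := by
  rw [MoreMor.nGeomConnComp, card_connectedComponents_eq_one_iff]
  refine ⟨fun h => ?_, fun h => ?_⟩
  · letI : (f.fiber y).Over (Spec (CommRingCat.of (Y.residueField y))) := ⟨f.fiberToSpecResidueField y⟩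
    exact GeomField.geometricallyConnected_of_separableClosure (k := Y.residueField y) (X := f.fiber y) h
  · exact h.geometrically_connectedSpace _ _ _ (IsPullback.of_hasPullback _ _)

theorem nGeom_eq_one_of_generic {X S : Scheme.{u}} [IsLocallyNoetherian S] (f : X ⟶ S) [IsProper f] [Flat f]
    [Surjective f] (s : S)
    (h : ∀ η : S, η ⤳ s → (∀ z, z ⤳ η → z = η) → MoreMor.nGeomConnComp f η = 1) :
    MoreMor.nGeomConnComp f s = 1 := by
  let Z := irreducibleComponent s
  have hZ : IsIrreducible Z := isIrreducible_irreducibleComponent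
  let η := hZ.genericPoint
  have hgen : IsGenericPoint η Z := hZ.isGenericPoint_genericPoint isClosed_irreducibleComponent
  have hs : η ⤳ s := hgen.specializes mem_irreducibleComponent
  refine le_antisymm ((nGeom_le_of_specializes f hs).trans (h η hs fun z hz => ?_).le) ?_
  · have h1 : Z ⊆ closure {z} := by
      rw [← hgen.def]
      exact closure_minimal (Set.singleton_subset_iff.2 hz.mem_closure) isClosed_closure
    have h2 : closure {z} = Z :=
      (irreducibleComponent_mem_irreducibleComponents s).2 isIrreducible_singleton.closure h1 |>.antisymm h1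
    exact (show IsGenericPoint z Z from h2).eq hgen
  · obtain ⟨x, hx⟩ := f.surjective s
    rw [Order.one_le_iff_pos, pos_iff_ne_zero]
    intro h0
    haveI := ENat.card_eq_zero_iff_empty _ |>.1 h0
    obtain ⟨w⟩ : Nonempty ↥(MoreMor.geomFiber f s) := by
      haveI : Surjective (Spec.map (CommRingCat.ofHom (algebraMap (S.residueField s) (SeparableClosure (S.residueField s))))) :=
        GrpSchLib.surjective_spec_map_field _
      haveI : Nonempty ↥(f.fiber s) := ⟨(f.fiberHomeo s).symm ⟨x, hx⟩⟩
      haveI : Surjective (pullback.fst (f.fiberToSpecResidueField s)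
        (Spec.map (CommRingCat.ofHom (algebraMap (S.residueField s) (SeparableClosure (S.residueField s)))))) :=
        MorphismProperty.pullback_fst _ _ inferInstance
      exact ⟨((pullback.fst (f.fiberToSpecResidueField s)
        (Spec.map (CommRingCat.ofHom (algebraMap (S.residueField s) (SeparableClosure (S.residueField s)))))).surjective
          (Classical.arbitrary _)).choose⟩
    exact IsEmpty.false (ConnectedComponents.mk w)

end Groth.Agent.CStk17.GeomConn
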