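import Groth.Agent.CStk17.GeomConn.Henselian
import Groth.Agent.LimSm.Model
import Groth.Agent.LimSm.Flat
import Groth.Agent.MorLib.ProperFT

/-!
# Local constancy of `h⁰` and of the geometric number of components over any base
-/

set_option autoImplicit false
set_option linter.style.haveILetI false
set_option backward.isDefEq.respectTransparency false
set_option backward.isDefEq.respectTransparency.types false

universe u

open CategoryTheory CategoryTheory.Limits AlgebraicGeometry TopologicalSpace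

namespace Groth.Agent.CStk17.GeomConn

variable {X S : Scheme.{u}} (f : X ⟶ S) [IsProper f] [Flat f] [LocallyOfFinitePresentation f]

/-- A chart of the base with a noetherian model. -/
theorem exists_chart_model (s : S) :
    ∃ (A : Type u) (_ : CommRing A) (j : Spec (CommRingCat.of A) ⟶ S) (_ : IsOpenImmersion j)
      (a : ↥(Spec (CommRingCat.of A))), j a = s ∧
      ∃ (A₀ : Subalgebra ℤ A) (_ : IsNoetherianRing A₀) (X₀ : Scheme.{u})
        (f₀ : X₀ ⟶ Spec (CommRingCat.of A₀)) (g : pullback f j ⟶ X₀), IsProper f₀ ∧ Flat f₀ ∧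
          IsPullback g (pullback.snd f j) f₀ (Spec.map (CommRingCat.ofHom (algebraMap A₀ A))) := by
  obtain ⟨_, ⟨U, hU, rfl⟩, hsU, -⟩ := S.isBasis_affineOpens.exists_subset_of_mem_open (Set.mem_univ s) isOpen_univ
  let A := Γ(S, U)
  let j := hU.fromSpec
  let fA := pullback.snd f j
  haveI : Flat fA := MorphismProperty.pullback_snd _ _ ‹Flat f›
  haveI : IsProper fA := MorphismProperty.pullback_snd _ _ ‹IsProper f›
  haveI : LocallyOfFinitePresentation fA := MorphismProperty.pullback_snd _ _ ‹LocallyOfFinitePresentation f›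
  obtain ⟨A₀, hA₀, X₀, f₀, g, h1, h2, -, -, -, h6⟩ := Groth.Agent.LimSm.exists_model_over_fg
    (P := @Flat) (P' := @IsProper) (Q := @LocallyOfFinitePresentation) (Q' := @LocallyOfFiniteType)
    Groth.Agent.LimSm.core_flat Groth.Agent.MorLib.Ultra.core_isProper
    (fun _ h => h) (fun _ h => haveI := h; inferInstance) A fA inferInstance inferInstance
  haveI : Algebra.FiniteType ℤ A₀ := (Subalgebra.fg_iff_finiteType A₀).mp hA₀
  exact ⟨A, inferInstance, j, inferInstance, hU.primeIdealOf ⟨s, hsU⟩, hU.fromSpec_primeIdealOf ⟨s, hsU⟩,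
    A₀, Algebra.FiniteType.isNoetherianRing ℤ A₀, X₀, f₀, g, h2, h1, h6⟩

theorem fibH0_eventually {s : S} (hs : GRed f s) : ∀ᶠ z in nhds s, fibH0 f z = fibH0 f s := by
  obtain ⟨A, _, j, _, a, rfl, A₀, _, X₀, f₀, g, hp, hfl, h6⟩ := exists_chart_model f s
  haveI := hp
  haveI := hfl
  haveI : IsProper (pullback.snd f j) := MorphismProperty.pullback_snd _ _ ‹IsProper f›
  let b := Spec.map (CommRingCat.ofHom (algebraMap A₀ A))
  have e : ∀ x, fibH0 f (j x) = fibH0 f₀ (b x) := fun x =>
    (fibH0_baseChange f (IsPullback.of_hasPullback f j) x).symm.trans (fibH0_baseChange f₀ h6 x)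
  have hy : GRed f₀ (b a) :=
    (gred_baseChange f₀ h6 a).1 ((gred_baseChange f (IsPullback.of_hasPullback f j) a).2 hs)
  have h := b.continuous.continuousAt.preimage_mem_nhds (fibH0_eventually_eq f₀ hy)
  refine Filter.mem_of_superset (j.isOpenEmbedding.isOpenMap.image_mem_nhds h) ?_
  rintro _ ⟨x, hx, rfl⟩
  show fibH0 f (j x) = fibH0 f (j a)
  rw [e, e]
  exact hx

theorem nGeom_eventually {s : S} (hs : GRed f s) (hopen : IsOpen {z : S | GRed f z}) :
    ∀ᶠ z in nhds s, GRed f z ∧ MoreMor.nGeomConnComp f z = MoreMor.nGeomConnComp f s := by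
  filter_upwards [fibH0_eventually f hs, hopen.mem_nhds hs] with z hz hzr
  exact ⟨hzr, by rw [nGeom_eq_fibH0 f z hzr, nGeom_eq_fibH0 f s hs, hz]⟩

end Groth.Agent.CStk17.GeomConn
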