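import Groth.Agent.CStk17.H0Open.Basic
import Groth.Agent.H23.LocNoethTop
import Groth.Agent.Triage.GeomCount
import Groth.Agent.FBaseLib.Basic
import Mathlib.Topology.Connected.Clopen
import Mathlib.FieldTheory.IsAlgClosed.Basic

/-!
# Global functions and connected components of proper schemes over a field
-/

set_option autoImplicit false
set_option linter.style.haveILetI false
set_option backward.isDefEq.respectTransparency false
set_option backward.isDefEq.respectTransparency.types false

universe u

open CategoryTheory CategoryTheory.Limits AlgebraicGeometry TopologicalSpace Opposite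

namespace Groth.Agent.CStk17.GeomConn

open Groth.Agent.CStk17.H0Open

variable {k : Type u} [Field k] {Z : Scheme.{u}} (p : Z ⟶ Spec (CommRingCat.of k)) [IsProper p]

include p in
theorem finite_sections [Z.Over (Spec (CommRingCat.of k))] [IsProper (Z ↘ Spec (CommRingCat.of k))] :
    letI := GeomField.globalAlgebra k Z
    Module.Finite k Γ(Z, ⊤) := by
  letI := GeomField.globalAlgebra k Z
  haveI : IsLocallyNoetherian Z := LocallyOfFiniteType.isLocallyNoetherian p
  haveI := CurveCohLib.finite_HH (k := k)
    (CurveDeg.isCoh_of_isInvertible (X := Z) InvX.isInvertible_structureModule) 0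
  let e : Coh.HH Z (Coh.structureModule Z) 0 ≃+ Γ(Z, ⊤) :=
    Sheaf.H.equiv₀ (Coh.toAb (Coh.structureModule Z)) isTerminalTop
  have he : ∀ (c : k) (x : Coh.HH Z (Coh.structureModule Z) 0), e (c • x) = c • e x := by
    intro c x
    let r : Coh.Γtop Z := Coh.toGlobal (Z ↘ Spec (CommRingCat.of k)) c
    have h := (Sheaf.H.equiv₀_naturality isTerminalTop (Coh.smulAb (Coh.structureModule Z) r) x).symm
    refine (show e (r • x) = _ from h).trans ?_
    show (show Γ(Z, ⊤) from Coh.resTop Z (Opposite.op ⊤) r) * e x = _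
    congr 1
    show (Z.presheaf.map (homOfLE le_top).op).hom r = r
    rw [show (homOfLE le_top).op = 𝟙 (Opposite.op (⊤ : Z.Opens)) from rfl, Z.presheaf.map_id]
    rfl
  let eL : Coh.HH Z (Coh.structureModule Z) 0 ≃ₗ[k] Γ(Z, ⊤) := { e with map_smul' := he }
  exact Module.Finite.equiv eL

theorem res_smul [Z.Over (Spec (CommRingCat.of k))] (U : Z.Opens) (c : k) (x : Γ(Z, ⊤)) :
    letI := GeomField.globalAlgebra k Z
    (Z.presheaf.map (homOfLE le_top).op).hom (c • x) =
      (Z.presheaf.map (homOfLE (le_top : U ≤ ⊤)).op).hom (algebraMap k Γ(Z, ⊤) c) *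
        (Z.presheaf.map (homOfLE le_top).op).hom x := by
  letI := GeomField.globalAlgebra k Z
  rw [Algebra.smul_def, map_mul]

theorem card_le_h0 {ι : Type u} [Fintype ι] (U : ι → Z.Opens) (hne : ∀ i, (U i : Set Z).Nonempty)
    (hd : Pairwise fun i j => Disjoint (U i : Set Z) (U j)) (hc : iSup U = ⊤) :
    Fintype.card ι ≤ h0 p := by
  classical
  letI : Z.Over (Spec (CommRingCat.of k)) := ⟨p⟩
  haveI : IsProper (Z ↘ Spec (CommRingCat.of k)) := ‹IsProper p›
  letI := GeomField.globalAlgebra k Z
  haveI := finite_sections p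
  show Fintype.card ι ≤ Module.finrank k (Coh.HH Z (Coh.structureModule Z) 0)
  rw [GeomField.finrank_HH_zero]
  have hdd : ∀ i j, i ≠ j → U i ⊓ U j = ⊥ := fun i j h => by
    refine TopologicalSpace.Opens.ext ?_
    simpa [Set.disjoint_iff_inter_eq_empty] using hd h
  have hex : ∀ i, ∃ e : Γ(Z, ⊤), ∀ j, (Z.presheaf.map (homOfLE (le_top : U j ≤ ⊤)).op).hom e =
      if j = i then 1 else 0 := by
    intro i
    obtain ⟨e, he, -⟩ := Z.sheaf.existsUnique_gluing' U ⊤ (fun j => homOfLE le_top) hc.ge
      (fun j => (if j = i then 1 else 0 : Γ(Z, U j))) (by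
        intro a b
        rcases eq_or_ne a b with rfl | hab
        · rfl
        · haveI : Subsingleton Γ(Z, U a ⊓ U b) :=
            CommRingCat.subsingleton_of_isTerminal (Z.sheaf.isTerminalOfEqEmpty (hdd a b hab))
          exact @Subsingleton.elim _ this _ _)
    exact ⟨e, he⟩
  choose e he using hex
  refine LinearIndependent.fintype_card_le_finrank (R := k) (b := e) ?_
  rw [Fintype.linearIndependent_iff]
  intro g hg j
  have h := congrArg (Z.presheaf.map (homOfLE (le_top : U j ≤ ⊤)).op).hom hg
  rw [map_sum, map_zero] at h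
  simp only [res_smul, he, mul_ite, mul_one, mul_zero, Finset.sum_ite_eq, Finset.mem_univ, if_true] at h
  haveI : Nonempty ↥(U j) := (hne j).to_subtype
  haveI : Nontrivial Γ(Z, U j) := inferInstance
  exact RingHom.injective ((Z.presheaf.map (homOfLE (le_top : U j ≤ ⊤)).op).hom.comp (algebraMap k Γ(Z, ⊤)))
    (h.trans (map_zero _).symm)

theorem h0_connected [IsAlgClosed k] [IsReduced Z] [ConnectedSpace Z] : h0 p = 1 := by
  letI : Z.Over (Spec (CommRingCat.of k)) := ⟨p⟩
  haveI : IsProper (Z ↘ Spec (CommRingCat.of k)) := ‹IsProper p›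
  letI := GeomField.globalAlgebra k Z
  haveI := finite_sections p
  show Module.finrank k (Coh.HH Z (Coh.structureModule Z) 0) = 1
  rw [GeomField.finrank_HH_zero]
  have hK := GeomField.isField_globalFunctions k Z
  haveI : IsDomain Γ(Z, ⊤) := hK.isDomain
  haveI : Algebra.IsIntegral k Γ(Z, ⊤) := Algebra.IsIntegral.of_finite k _
  exact (LinearEquiv.ofBijective (Algebra.linearMap k Γ(Z, ⊤))
    (IsAlgClosed.algebraMap_bijective_of_isIntegral (k := k) (K := Γ(Z, ⊤)))).finrank_eq.symm.trans
    (Module.finrank_self k)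

theorem h0_le_card [IsAlgClosed k] [IsReduced Z] {ι : Type u} [Fintype ι] (U : ι → Z.Opens)
    (hconn : ∀ i, _root_.IsConnected (U i : Set Z)) (hcl : ∀ i, IsClosed (U i : Set Z)) (hc : iSup U = ⊤) :
    h0 p ≤ Fintype.card ι := by
  classical
  letI : Z.Over (Spec (CommRingCat.of k)) := ⟨p⟩
  haveI : IsProper (Z ↘ Spec (CommRingCat.of k)) := ‹IsProper p›
  letI := GeomField.globalAlgebra k Z
  show Module.finrank k (Coh.HH Z (Coh.structureModule Z) 0) ≤ _
  rw [GeomField.finrank_HH_zero]
  let alg : ∀ i, Algebra k Γ(Z, U i) := fun i =>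
    ((Z.presheaf.map (homOfLE (le_top : U i ≤ ⊤)).op).hom.comp (algebraMap k Γ(Z, ⊤))).toAlgebra
  letI := alg
  have hfin : ∀ i, Module.Finite k Γ(Z, U i) ∧ Module.finrank k Γ(Z, U i) = 1 := by
    intro i
    haveI : ConnectedSpace ↥(U i : Scheme.{u}) := isConnected_iff_connectedSpace.1 (hconn i)
    haveI : IsClosedImmersion (U i).ι :=
      IsClosedImmersion.of_isPreimmersion _ (by rw [Scheme.Opens.range_ι]; exact hcl i)
    haveI : IsReduced (U i : Scheme.{u}) := isReduced_of_isOpenImmersion (U i).ι
    let q : (U i : Scheme.{u}) ⟶ Spec (CommRingCat.of k) := (U i).ι ≫ p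
    haveI : IsProper q := inferInstanceAs (IsProper ((U i).ι ≫ p))
    have h1 := h0_connected q
    letI : (U i : Scheme.{u}).Over (Spec (CommRingCat.of k)) := ⟨q⟩
    haveI : IsProper ((U i : Scheme.{u}) ↘ Spec (CommRingCat.of k)) := ‹IsProper q›
    letI := GeomField.globalAlgebra k (U i : Scheme.{u})
    haveI := finite_sections q
    replace h1 : Module.finrank k Γ((U i : Scheme.{u}), ⊤) = 1 :=
      (GeomField.finrank_HH_zero k (U i : Scheme.{u})).symm.trans h1
    let e := (U i).topIso.commRingCatIsoToRingEquiv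
    have he : ∀ (c : k) (x : Γ((U i : Scheme.{u}), ⊤)), e (c • x) = c • e x := by
      intro c x
      rw [Algebra.smul_def, Algebra.smul_def, map_mul]
      congr 1
      show (U i).topIso.hom (((U i).ι ≫ p).appTop _) = (Z.presheaf.map _) (p.appTop _)
      rw [Scheme.Hom.comp_appTop, CommRingCat.comp_apply, ← CommRingCat.comp_apply _ ((U i).topIso.hom)]
      congr 2
      simp [Scheme.Opens.ι_appTop, ← Functor.map_comp]
    let eL : Γ((U i : Scheme.{u}), ⊤) ≃ₗ[k] Γ(Z, U i) := { e.toAddEquiv with map_smul' := he }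
    exact ⟨Module.Finite.equiv eL, eL.finrank_eq.symm.trans h1⟩
  haveI : ∀ i, Module.Finite k Γ(Z, U i) := fun i => (hfin i).1
  let L : Γ(Z, ⊤) →ₗ[k] Π i, Γ(Z, U i) :=
    LinearMap.pi fun i =>
      { toFun := (Z.presheaf.map (homOfLE (le_top : U i ≤ ⊤)).op).hom
        map_add' := map_add _
        map_smul' := fun c x => by
          rw [RingHom.id_apply, Algebra.smul_def, Algebra.smul_def, map_mul]
          rfl }
  have hL : Function.Injective L := fun a b h =>
    Z.sheaf.eq_of_locally_eq' U ⊤ (fun j => homOfLE le_top) hc.ge a b fun j => congrFun h j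
  refine (LinearMap.finrank_le_finrank_of_injective hL).trans ?_
  rw [Module.finrank_pi_fintype]
  simp [(hfin _).2]

theorem h0_eq_card [IsAlgClosed k] [IsReduced Z] :
    (h0 p : ℕ∞) = ENat.card (_root_.ConnectedComponents Z) := by
  haveI : IsLocallyNoetherian Z := LocallyOfFiniteType.isLocallyNoetherian p
  haveI : CompactSpace Z := QuasiCompact.compactSpace_of_compactSpace p
  haveI : AlgebraicGeometry.IsNoetherian Z := {}
  haveI : LocallyConnectedSpace Z := H23.LocNoethTop.locallyConnectedSpace
    (fun _ => ⟨Set.univ, Filter.univ_mem, inferInstance⟩)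
  haveI : DiscreteTopology (_root_.ConnectedComponents Z) := inferInstance
  haveI : CompactSpace (_root_.ConnectedComponents Z) := inferInstance
  haveI : Finite (_root_.ConnectedComponents Z) := finite_of_compact_of_discrete
  haveI := Fintype.ofFinite (_root_.ConnectedComponents Z)
  let U : _root_.ConnectedComponents Z → Z.Opens := fun c =>
    ⟨_root_.ConnectedComponents.mk ⁻¹' {c}, (isOpen_discrete ({c} : Set (_root_.ConnectedComponents Z))).preimage _root_.ConnectedComponents.continuous_coe⟩
  have hconn : ∀ c, _root_.IsConnected (U c : Set Z) := by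
    intro c
    obtain ⟨x, rfl⟩ := _root_.ConnectedComponents.surjective_coe c
    show _root_.IsConnected (_root_.ConnectedComponents.mk ⁻¹' {_root_.ConnectedComponents.mk x})
    rw [connectedComponents_preimage_singleton]
    exact isConnected_connectedComponent
  have hcl : ∀ c, IsClosed (U c : Set Z) := fun c =>
    (isClosed_discrete ({c} : Set (_root_.ConnectedComponents Z))).preimage _root_.ConnectedComponents.continuous_coe
  have hc : iSup U = ⊤ := eq_top_iff.2 fun x _ =>
    TopologicalSpace.Opens.mem_iSup.2 ⟨_root_.ConnectedComponents.mk x, rfl⟩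
  rw [ENat.card_eq_coe_fintype_card, Nat.cast_inj]
  exact le_antisymm (h0_le_card p U hconn hcl hc)
    (card_le_h0 p U (fun c => (hconn c).nonempty) (fun a b h => (Set.disjoint_singleton.2 h).preimage _) hc)

end Groth.Agent.CStk17.GeomConn
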