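import Groth.Agent.Ega43Sect.GeomConnMain
import Groth.Agent.CStk17.GeomConn.Geometric
import Groth.Agent.H23.LocNoethTop

/-!
# The geometric number of connected components near a generic point
-/

set_option autoImplicit false
set_option linter.style.haveILetI false
set_option maxHeartbeats 1000000
set_option backward.isDefEq.respectTransparency false
set_option backward.isDefEq.respectTransparency.types false

universe u

open CategoryTheory CategoryTheory.Limits AlgebraicGeometry TopologicalSpace Topology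

namespace Groth.Agent.CStk17.GeomConn

open Ega43Sect


/-- Finitely many disjoint closed connected pieces covering a space are its components. -/
theorem card_connectedComponents_of_partition {T : Type*} {ι : Type*} [TopologicalSpace T] [Finite ι]
    (P : ι → Set T) (hc : ∀ k, IsClosed (P k)) (hP : ∀ k, _root_.IsConnected (P k))
    (hd : ∀ k l, k ≠ l → Disjoint (P k) (P l)) (hcov : ∀ x, ∃ k, x ∈ P k) :
    ENat.card (_root_.ConnectedComponents T) = ENat.card ι := by
  have hopen : ∀ k, IsClopen (P k) := fun k => ⟨hc k, by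
    rw [← isClosed_compl_iff, show (P k)ᶜ = ⋃ l : {l // l ≠ k}, P l.1 by
      ext x
      simp only [Set.mem_compl_iff, Set.mem_iUnion]
      constructor
      · intro hx
        obtain ⟨l, hl⟩ := hcov x
        exact ⟨⟨l, fun h => hx (h ▸ hl)⟩, hl⟩
      · rintro ⟨⟨l, hl⟩, hxl⟩ hx
        exact Set.disjoint_left.1 (hd l k hl) hxl hx]
    exact isClosed_iUnion_of_finite fun l => hc l.1⟩
  choose x hx using fun k => (hP k).nonempty
  have hcc : ∀ k y, y ∈ P k → connectedComponent y = P k := fun k y hy =>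
    Set.Subset.antisymm (isPreconnected_connectedComponent.subset_isClopen (hopen k) ⟨y, mem_connectedComponent, hy⟩)
      ((hP k).isPreconnected.subset_connectedComponent hy)
  refine (ENat.card_congr (Equiv.ofBijective (fun k => ConnectedComponents.mk (x k)) ⟨fun k l hkl => ?_, fun c => ?_⟩)).symm.trans ?_
  · by_contra hne
    have h1 : x k ∈ P l := hcc l (x l) (hx l) ▸ ConnectedComponents.coe_eq_coe'.1 hkl
    exact Set.disjoint_left.1 (hd k l hne) (hx k) h1
  · obtain ⟨y, rfl⟩ := ConnectedComponents.surjective_coe c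
    obtain ⟨k, hk⟩ := hcov y
    exact ⟨k, ConnectedComponents.coe_eq_coe'.2 ((hcc k y hk).symm ▸ hx k)⟩
  · rfl

theorem connectedSpace_of_isConnected_range {T T' : Type*} [TopologicalSpace T] [TopologicalSpace T'] {e : T → T'}
    (he : IsInducing e) (h : _root_.IsConnected (Set.range e)) : ConnectedSpace T := by
  obtain ⟨⟨_, x, rfl⟩, hp⟩ := h
  rw [← Set.image_univ] at hp
  haveI : PreconnectedSpace T := ⟨he.isPreconnected_image.1 hp⟩
  exact { toNonempty := ⟨x⟩ }

section

variable {A : Type u} [CommRing A] [IsDomain A] {X : Scheme.{u}}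
    (F : X ⟶ Spec (CommRingCat.of A)) [LocallyOfFiniteType F] [CompactSpace ↥X] (Ω : Type u) [Field Ω] [IsAlgClosed Ω]
    [Algebra A Ω] [FaithfulSMul A Ω]

/-- A closed subset with connected geometric generic fibre has connected fibres near it. -/
theorem exists_isConnected_near {Z : Set ↥X} (hZ : IsClosed Z)
    (h : _root_.IsConnected ((pullback.fst F (Spec.map (CommRingCat.ofHom (algebraMap A Ω)))).base ⁻¹' Z)) :
    ∃ c : A, c ≠ 0 ∧ ∀ (K : Type u) [Field K] [Algebra A K], algebraMap A K c ≠ 0 →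
      _root_.IsConnected ((pullback.fst F (Spec.map (CommRingCat.ofHom (algebraMap A K)))).base ⁻¹' Z) := by
  obtain ⟨W, i, hi, -, hr⟩ := H23.RedSub.exists_reduced_subscheme X hZ.isLocallyClosed
  haveI := hi
  haveI : IsClosedImmersion i := IsClosedImmersion.of_isPreimmersion i (by rw [hr]; exact hZ)
  haveI : CompactSpace ↥W := i.isClosedEmbedding.compactSpace
  obtain ⟨eΩ, heΩ, hrΩ⟩ := range_subscheme F i (Spec.map (CommRingCat.ofHom (algebraMap A Ω)))
  obtain ⟨c, hc, hnear⟩ := exists_connectedSpace_near (i ≫ F) Ω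
    (connectedSpace_of_isConnected_range heΩ (by rw [hrΩ, hr]; exact h))
  refine ⟨c, hc, fun K _ _ hK => ?_⟩
  obtain ⟨e, he, hre⟩ := range_subscheme F i (Spec.map (CommRingCat.ofHom (algebraMap A K)))
  rw [← hr, ← hre, ← Set.image_univ]
  haveI := hnear K hK
  exact isConnected_univ.image e he.continuous.continuousOn

omit [IsAlgClosed Ω] in
/-- A closed subset missing the geometric generic fibre misses the fibres near it. -/
theorem exists_closed_empty_near {Z : Set ↥X} (hZ : IsClosed Z)
    (h : ∀ z, (pullback.fst F (Spec.map (CommRingCat.ofHom (algebraMap A Ω)))).base z ∉ Z) :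
    ∃ c : A, c ≠ 0 ∧ ∀ (K : Type u) [Field K] [Algebra A K], algebraMap A K c ≠ 0 →
      ∀ z, (pullback.fst F (Spec.map (CommRingCat.ofHom (algebraMap A K)))).base z ∉ Z := by
  obtain ⟨W, i, hi, -, hr⟩ := H23.RedSub.exists_reduced_subscheme X hZ.isLocallyClosed
  haveI := hi
  haveI : IsClosedImmersion i := IsClosedImmersion.of_isPreimmersion i (by rw [hr]; exact hZ)
  haveI : CompactSpace ↥W := i.isClosedEmbedding.compactSpace
  obtain ⟨c, hc, hnear⟩ := exists_nonempty_near (i ≫ F) Ω
  refine ⟨c, hc, fun K _ _ hK z hz => ?_⟩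
  obtain ⟨eΩ, -, hrΩ⟩ := range_subscheme F i (Spec.map (CommRingCat.ofHom (algebraMap A Ω)))
  obtain ⟨e, -, hre⟩ := range_subscheme F i (Spec.map (CommRingCat.ofHom (algebraMap A K)))
  rw [← hr] at hz
  obtain ⟨w, -⟩ : z ∈ Set.range e := hre.ge hz
  obtain ⟨w'⟩ := (hnear K hK).1 ⟨w⟩
  refine h (eΩ w') ?_
  rw [← hr]
  exact hrΩ.le ⟨w', rfl⟩

/-- If the components of the generic geometric fibre are defined over the base, their number is constant nearby. -/
theorem exists_card_near_of_pieces {ι : Type u} [Finite ι]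
    (Z : ι → Set ↥X) (hZ : ∀ k, IsClosed (Z k))
    (hconn : ∀ k, _root_.IsConnected ((pullback.fst F (Spec.map (CommRingCat.ofHom (algebraMap A Ω)))).base ⁻¹' Z k))
    (hdisj : ∀ k l, k ≠ l → ∀ w, (pullback.fst F (Spec.map (CommRingCat.ofHom (algebraMap A Ω)))).base w ∈ Z k →
      (pullback.fst F (Spec.map (CommRingCat.ofHom (algebraMap A Ω)))).base w ∉ Z l)
    (hcov : ∀ w, ∃ k, (pullback.fst F (Spec.map (CommRingCat.ofHom (algebraMap A Ω)))).base w ∈ Z k) :
    ∃ c : A, c ≠ 0 ∧ ∀ (K : Type u) [Field K] [Algebra A K], algebraMap A K c ≠ 0 →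
      ENat.card (_root_.ConnectedComponents ↥(pullback F (Spec.map (CommRingCat.ofHom (algebraMap A K))))) =
        ENat.card ι := by
  classical
  haveI := Fintype.ofFinite ι
  have h1 := fun k => exists_isConnected_near F Ω (hZ k) (hconn k)
  have h2 : ∀ p : {p : ι × ι // p.1 ≠ p.2}, ∃ c : A, c ≠ 0 ∧ ∀ (L : Type u) [Field L] [Algebra A L],
      algebraMap A L c ≠ 0 → ∀ z, (pullback.fst F (Spec.map (CommRingCat.ofHom (algebraMap A L)))).base z ∉
        Z p.1.1 ∩ Z p.1.2 :=
    fun p => exists_closed_empty_near F Ω ((hZ p.1.1).inter (hZ p.1.2)) fun z hz => hdisj _ _ p.2 z hz.1 hz.2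
  obtain ⟨c0, hc0, h0⟩ := exists_open_empty_near F Ω
  choose c1 hc1 h1 using h1
  choose c2 hc2 h2 using h2
  refine ⟨(∏ k, c1 k) * (∏ p, c2 p) * c0, mul_ne_zero (mul_ne_zero (Finset.prod_ne_zero_iff.2 fun k _ => hc1 k)
    (Finset.prod_ne_zero_iff.2 fun p _ => hc2 p)) hc0, fun L _ _ hL => ?_⟩
  simp only [map_mul, map_prod, ne_eq, mul_eq_zero, not_or, Finset.prod_eq_zero_iff, Finset.mem_univ, true_and,
    not_exists] at hL
  obtain ⟨⟨hL1, hL2⟩, hL0⟩ := hL
  refine card_connectedComponents_of_partition _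
    (fun k => (hZ k).preimage (pullback.fst F (Spec.map (CommRingCat.ofHom (algebraMap A L)))).continuous)
    (fun k => h1 k L (hL1 k)) (fun k l hkl => Set.disjoint_left.2 fun z hz hz' => h2 ⟨(k, l), hkl⟩ L (hL2 _) z ⟨hz, hz'⟩)
    fun z => ?_
  by_contra hz
  push Not at hz
  refine h0 ⟨(⋃ k, Z k)ᶜ, (isClosed_iUnion_of_finite hZ).isOpen_compl⟩ (fun w hw => ?_) L hL0 z fun hm => ?_
  · obtain ⟨k, hk⟩ := hcov w
    exact hw (Set.mem_iUnion.2 ⟨k, hk⟩)
  · obtain ⟨k, hk⟩ := Set.mem_iUnion.1 hm
    exact hz k hk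

end

/-- The number of components of the geometric fibres is constant near the generic one. -/
theorem exists_card_near
    {A : Type u} [CommRing A] [IsDomain A] {X : Scheme.{u}} (F : X ⟶ Spec (CommRingCat.of A)) [LocallyOfFiniteType F]
    [CompactSpace ↥X] (Ω : Type u) [Field Ω] [IsAlgClosed Ω] [Algebra A Ω] [FaithfulSMul A Ω] :
    ∃ c : A, c ≠ 0 ∧ ∃ n : ℕ∞, ∀ (K : Type u) [Field K] [IsAlgClosed K] [Algebra A K], algebraMap A K c ≠ 0 →
      ENat.card (_root_.ConnectedComponents ↥(pullback F (Spec.map (CommRingCat.ofHom (algebraMap A K))))) = n := by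
  classical
  let P := pullback F (Spec.map (CommRingCat.ofHom (algebraMap A Ω)))
  haveI : CompactSpace ↥P := QuasiCompact.compactSpace_of_compactSpace (pullback.snd F _)
  haveI : IsLocallyNoetherian P := LocallyOfFiniteType.isLocallyNoetherian (pullback.snd F _)
  haveI : AlgebraicGeometry.IsNoetherian P := ⟨⟩
  haveI : LocallyConnectedSpace ↥P := H23.LocNoethTop.locallyConnectedSpace
    (fun _ => ⟨Set.univ, Filter.univ_mem, inferInstance⟩)
  haveI := Fintype.ofFinite (_root_.ConnectedComponents ↥P)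
  have hCc : ∀ k : _root_.ConnectedComponents ↥P, IsClosed (ConnectedComponents.mk ⁻¹' {k}) := fun k =>
    (isClosed_discrete _).preimage ConnectedComponents.continuous_coe
  have hCn : ∀ k : _root_.ConnectedComponents ↥P, _root_.IsConnected (ConnectedComponents.mk ⁻¹' {k}) := fun k => by
    obtain ⟨x, rfl⟩ := ConnectedComponents.surjective_coe k
    rw [connectedComponents_preimage_singleton]
    exact isConnected_connectedComponent
  choose s hs using fun k : _root_.ConnectedComponents ↥P => exists_descend_closed F _ (hCc k)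
  obtain ⟨A₁, hfg, hA₁⟩ : ∃ A₁ : Subalgebra A Ω, A₁.FG ∧ ∀ k, (s k : Set Ω) ⊆ A₁ :=
    ⟨Algebra.adjoin A ((Finset.univ.biUnion s : Finset Ω) : Set Ω), Subalgebra.fg_adjoin_finset _,
      fun k w hw => Algebra.subset_adjoin (Finset.mem_biUnion.2 ⟨k, Finset.mem_univ _, hw⟩)⟩
  haveI : FaithfulSMul A₁ Ω := (faithfulSMul_iff_algebraMap_injective _ _).2 Subtype.val_injective
  have hy : Spec.map (CommRingCat.ofHom (algebraMap A₁ Ω)) ≫ Spec.map (CommRingCat.ofHom (algebraMap A A₁)) =
      Spec.map (CommRingCat.ofHom (algebraMap A Ω)) := by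
    rw [← Spec.map_comp, ← CommRingCat.ofHom_comp, ← IsScalarTower.algebraMap_eq]
  obtain ⟨e, he⟩ := exists_iso_comp_eq F (Spec.map (CommRingCat.ofHom (algebraMap A A₁)))
    (Spec.map (CommRingCat.ofHom (algebraMap A₁ Ω))) (Spec.map (CommRingCat.ofHom (algebraMap A Ω))) hy
    (toSub F A₁) (pullback.lift_fst _ _ _) (pullback.lift_snd _ _ _)
  haveI : CompactSpace ↥(pullback F (Spec.map (CommRingCat.ofHom (algebraMap A A₁)))) :=
    QuasiCompact.compactSpace_of_compactSpace (pullback.snd F _)
  have hCZ : ∀ (k : _root_.ConnectedComponents ↥P) z,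
      (pullback.fst (pullback.snd F (Spec.map (CommRingCat.ofHom (algebraMap A A₁))))
        (Spec.map (CommRingCat.ofHom (algebraMap A₁ Ω)))).base z ∈
          closure ((toSub F A₁).base '' (ConnectedComponents.mk ⁻¹' {k})) ↔
        ConnectedComponents.mk (e.hom.base z) = k := fun k z => by
    rw [← he]
    exact Set.ext_iff.1 (hs k A₁ (hA₁ k)) (e.hom.base z)
  obtain ⟨c₁, hc₁, hcard⟩ := exists_card_near_of_pieces
    (pullback.snd F (Spec.map (CommRingCat.ofHom (algebraMap A A₁)))) Ω
    (fun k : _root_.ConnectedComponents ↥P => closure ((toSub F A₁).base '' (ConnectedComponents.mk ⁻¹' {k})))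
    (fun k => isClosed_closure)
    (fun k => by
      have h2 := (e.hom.homeomorph.isConnected_preimage (s := ConnectedComponents.mk ⁻¹' {k})).2 (hCn k)
      convert h2 using 1
      exact Set.ext (hCZ k))
    (fun k l hkl w hk hl => hkl (((hCZ k w).1 hk).symm.trans ((hCZ l w).1 hl)))
    (fun w => ⟨_, (hCZ _ w).2 rfl⟩)
  obtain ⟨c, hc, hdesc⟩ := exists_descend_field A₁ hfg hc₁
  refine ⟨c, hc, ENat.card (_root_.ConnectedComponents ↥P), fun κ _ _ _ hκ => ?_⟩
  obtain ⟨L₀, _, φ₁, φκ, hL, hφ⟩ := hdesc κ hκ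
  let L := AlgebraicClosure L₀
  let ψ₁ : A₁ →+* L := (algebraMap L₀ L).comp φ₁
  letI := ψ₁.toAlgebra
  have h3 := hcard L (fun h0 => hL ((algebraMap L₀ L).injective (h0.trans (map_zero _).symm)))
  rw [← h3]
  let tκ := Spec.map (CommRingCat.ofHom (algebraMap A κ))
  let tL : Spec (CommRingCat.of L) ⟶ Spec (CommRingCat.of A) :=
    Spec.map (CommRingCat.ofHom (algebraMap A₁ L)) ≫ Spec.map (CommRingCat.ofHom (algebraMap A A₁))
  have h4 : tL = Spec.map (CommRingCat.ofHom ((algebraMap L₀ L).comp φκ)) ≫ tκ := by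
    show Spec.map _ ≫ Spec.map _ = Spec.map _ ≫ Spec.map _
    rw [← Spec.map_comp, ← Spec.map_comp, ← CommRingCat.ofHom_comp, ← CommRingCat.ofHom_comp]
    congr 2
    show ((algebraMap L₀ L).comp φ₁).comp (algebraMap A A₁) = ((algebraMap L₀ L).comp φκ).comp (algebraMap A κ)
    rw [RingHom.comp_assoc, RingHom.comp_assoc, hφ]
  have hpt : tL (IsLocalRing.closedPoint L) = tκ (IsLocalRing.closedPoint κ) := by
    rw [h4, Scheme.Hom.comp_apply]
    exact congrArg tκ (Subsingleton.elim (α := PrimeSpectrum κ) _ _)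
  rw [← nGeom_eq_card F tκ _ rfl, nGeom_eq_card F tL _ hpt]
  let H := (pullbackLeftPullbackSndIso F (Spec.map (CommRingCat.ofHom (algebraMap A A₁)))
      (Spec.map (CommRingCat.ofHom (algebraMap A₁ L)))).inv.homeomorph
  exact Triage.GeomCount.card_connectedComponents_eq H H.continuous H.surjective fun z =>
    H.isPreconnected_preimage.2 isPreconnected_connectedComponent

/-- The geometric number of components is constant on a relative neighbourhood in the closure of a point. -/
theorem exists_nGeom_const {X Y : Scheme.{u}} (f : X ⟶ Y) [LocallyOfFiniteType f] [QuasiCompact f]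
    [IrreducibleSpace ↥Y] :
    ∃ V : Y.Opens, genericPoint ↥Y ∈ V ∧ ∀ y ∈ V, MoreMor.nGeomConnComp f y = MoreMor.nGeomConnComp f (genericPoint ↥Y) := by
  obtain ⟨A, _, _, ψ, -, hV⟩ := exists_domain_chart Y
  haveI : CompactSpace ↥(pullback f ψ) := QuasiCompact.compactSpace_of_compactSpace (pullback.snd f ψ)
  haveI : FaithfulSMul A (AlgebraicClosure (FractionRing A)) := (faithfulSMul_iff_algebraMap_injective _ _).2 (by
    rw [IsScalarTower.algebraMap_eq A (FractionRing A)]
    exact (algebraMap (FractionRing A) _).injective.comp (IsFractionRing.injective A _))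
  obtain ⟨c, hc, n, hn⟩ := exists_card_near (pullback.snd f ψ) (AlgebraicClosure (FractionRing A))
  obtain ⟨V, hne, hV⟩ := hV c hc
  have key : ∀ y ∈ V, MoreMor.nGeomConnComp f y = n := fun y hy => by
    let K := AlgebraicClosure (Y.residueField y)
    let t : Spec (CommRingCat.of K) ⟶ Y :=
      Spec.map (CommRingCat.ofHom (algebraMap (Y.residueField y) K)) ≫ Y.fromSpecResidueField y
    have ht : t (IsLocalRing.closedPoint K) = y := by
      rw [Scheme.Hom.comp_apply]; exact Y.fromSpecResidueField_apply _ _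
    obtain ⟨φ, hφc, hφt⟩ := hV K t (ht.symm ▸ hy)
    letI := φ.toAlgebra
    rw [nGeom_eq_card f t y ht, ← hn K hφc, ← hφt]
    let H := (pullbackLeftPullbackSndIso f ψ (Spec.map (CommRingCat.ofHom φ))).inv.homeomorph
    exact Triage.GeomCount.card_connectedComponents_eq H H.continuous H.surjective fun z =>
      H.isPreconnected_preimage.2 isPreconnected_connectedComponent
  obtain ⟨z, hz⟩ := hne
  have hη : genericPoint ↥Y ∈ V := (genericPoint_specializes z).mem_open V.2 hz
  exact ⟨V, hη, fun y hy => (key y hy).trans (key _ hη).symm⟩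

end Groth.Agent.CStk17.GeomConn
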